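import Groth.Agent.FibTrivLib.Coaction
import Groth.Agent.RedCharZeroLib.TorusSplit
import Groth.Agent.TrivNilLib.Scheme
import Mathlib.AlgebraicGeometry.Morphisms.FiniteType
import Mathlib.Algebra.Polynomial.Roots
import Mathlib.FieldTheory.IsAlgClosed.Basic

/-!
A rational point of a split torus with the same centralizer as the torus.
-/

set_option autoImplicit false

noncomputable section

universe u

open CategoryTheory MonoidalCategory CartesianMonoidalCategory AlgebraicGeometry CoactBr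
open scoped MonObj TensorProduct

namespace Groth.Agent.TorPt

open Groth.Agent.FreeAct (DA bas bas_apply IsAct co chr chr_bas pr)

/-- Morphisms agree if they agree on affine points. -/
theorem hom_ext_affine {R : Type u} [CommRing R] {X Y : Over (Spec (CommRingCat.of R))} (f g : X ⟶ Y)
    (h : ∀ (K : Type u) [CommRing K] [Algebra R K] (w : sp R K ⟶ X), w ≫ f = w ≫ g) : f = g := by
  refine Over.OverMorphism.ext (Scheme.Cover.hom_ext X.left.affineCover _ _ fun i => ?_)
  haveI : IsAffine (X.left.affineCover.X i) := inferInstance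
  refine (cancel_epi (X.left.affineCover.X i).isoSpec.inv).1 ?_
  obtain ⟨φ, hφ⟩ := Spec.map_surjective
    ((X.left.affineCover.X i).isoSpec.inv ≫ X.left.affineCover.f i ≫ X.hom)
  letI : Algebra R Γ(X.left.affineCover.X i, ⊤) := φ.hom.toAlgebra
  let w : sp R Γ(X.left.affineCover.X i, ⊤) ⟶ X :=
    Over.homMk ((X.left.affineCover.X i).isoSpec.inv ≫ X.left.affineCover.f i)
      ((Category.assoc _ _ _).trans hφ.symm)
  rw [← Category.assoc, ← Category.assoc]
  exact congrArg CommaMorphism.left (h _ w)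

theorem exists_separating_nat {r : ℕ} (F : Finset (Fin r → ℤ)) :
    ∃ c : ℕ, ∀ m ∈ F, m ≠ 0 → ∑ i : Fin r, m i * (c : ℤ) ^ (i : ℕ) ≠ 0 := by
  classical
  let P : (Fin r → ℤ) → Polynomial ℤ := fun m => ∑ i : Fin r, Polynomial.C (m i) * Polynomial.X ^ (i : ℕ)
  have hP : ∀ m, m ≠ 0 → P m ≠ 0 := fun m hm h => hm (funext fun i => by
    have := congrArg (fun p => Polynomial.coeff p (i : ℕ)) h
    simpa [P, Polynomial.finsetSum_coeff, Polynomial.coeff_X_pow, Fin.val_inj] using this)
  obtain ⟨c, hc⟩ := Infinite.exists_notMem_finset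
    ((F.biUnion fun m => (P m).roots.toFinset).preimage (fun n : ℕ => (n : ℤ))
      (Set.injOn_of_injective Nat.cast_injective))
  refine ⟨c, fun m hm hm0 h => hc ?_⟩
  rw [Finset.mem_preimage, Finset.mem_biUnion]
  refine ⟨m, hm, ?_⟩
  rw [Multiset.mem_toFinset, Polynomial.mem_roots (hP m hm0)]
  simpa [P, Polynomial.eval_finsetSum] using h

/-- A point of a split torus separating finitely many characters from the trivial one. -/
theorem exists_separating_char {k : Type u} [Field k] [Infinite k] {r : ℕ}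
    (F : Finset (Multiplicative (Fin r → ℤ))) :
    ∃ χ : Multiplicative (Fin r → ℤ) →* k, ∀ m ∈ F, m ≠ 1 → χ m ≠ 1 := by
  classical
  obtain ⟨c, hc⟩ := exists_separating_nat (F.image Multiplicative.toAdd)
  let e : Multiplicative (Fin r → ℤ) → ℤ := fun m => ∑ i : Fin r, Multiplicative.toAdd m i * (c : ℤ) ^ (i : ℕ)
  have hfin : ∀ n : ℤ, n ≠ 0 → {t : k | t ^ n = 1}.Finite := fun n hn => by
    refine Set.Finite.subset (Polynomial.finite_setOfPred_isRoot
      (p := Polynomial.X ^ n.natAbs - Polynomial.C (1 : k))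
      (Polynomial.X_pow_sub_C_ne_zero (Int.natAbs_pos.2 hn) 1)) fun t ht => ?_
    have h1 : t ^ n.natAbs = 1 := by
      rcases Int.natAbs_eq n with h | h <;> rw [Set.mem_setOf_eq, h] at ht
      · rwa [zpow_natCast] at ht
      · rwa [zpow_neg, zpow_natCast, inv_eq_one] at ht
    simp [h1]
  have hbad : (({0} : Set k) ∪ ⋃ m ∈ F.filter (· ≠ 1), {t : k | t ^ e m = 1}).Finite := by
    refine (Set.finite_singleton 0).union ((F.filter (· ≠ 1)).finite_toSet.biUnion fun m hm => hfin _ ?_)
    rw [Finset.mem_coe, Finset.mem_filter] at hm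
    exact hc _ (Finset.mem_image_of_mem _ hm.1) fun h => hm.2 h
  obtain ⟨t, ht⟩ := hbad.infinite_compl.nonempty
  simp only [Set.mem_compl_iff, Set.mem_union, Set.mem_singleton_iff, Set.mem_iUnion, Set.mem_setOf_eq,
    not_or, not_exists] at ht
  let χ : Multiplicative (Fin r → ℤ) →* k :=
    { toFun := fun m => t ^ e m
      map_one' := by simp [e]
      map_mul' := fun m n => by
        rw [← zpow_add₀ ht.1]
        simp [e, add_mul, Finset.sum_add_distrib] }
  exact ⟨χ, fun m hm hm1 => ht.2 m (Finset.mem_filter.2 ⟨hm, hm1⟩)⟩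

/-- A rational point of a split torus acting with the same fixed points as the torus. -/
theorem exists_sep_algHom {k : Type u} [Field k] [Infinite k] {r : ℕ} {B : Type u} [CommRing B] [Algebra k B]
    [Algebra.FiniteType k B] (ρ : B →ₐ[k] DA k (Fin r → ℤ) ⊗[k] B) (hρ : IsAct ρ) :
    ∃ φs : DA k (Fin r → ℤ) →ₐ[k] k, ∀ (K : Type u) [CommRing K] [Algebra k K] (x : B →ₐ[k] K),
      (pr ((Algebra.ofId k K).comp φs) x).comp ρ = x →
        ∀ g : DA k (Fin r → ℤ) →ₐ[k] K, (pr g x).comp ρ = x := by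
  classical
  obtain ⟨s, hs⟩ := (inferInstance : Algebra.FiniteType k B).out
  choose Fb hFb using fun b => hρ.exists_sum_co b
  let F := s.biUnion Fb
  obtain ⟨χ, hχ⟩ := exists_separating_char (k := k) F
  refine ⟨chr k χ, fun K _ _ x hx g => ?_⟩
  let X : Set B := {b | ∃ m ∈ F, ρ b = bas k (Fin r → ℤ) m ⊗ₜ[k] b}
  have hX : Algebra.adjoin k X = ⊤ := top_le_iff.1 <| hs.symm.le.trans <| Algebra.adjoin_le fun b hb => by
    rw [SetLike.mem_coe, ← hFb b]
    exact Subalgebra.sum_mem _ fun m hm =>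
      Algebra.subset_adjoin ⟨m, Finset.mem_biUnion.2 ⟨b, hb, hm⟩, hρ.rho_co m b⟩
  refine AlgHom.ext_of_adjoin_eq_top hX fun b hb => ?_
  obtain ⟨m, hm, hb⟩ := hb
  have hev : ∀ f : DA k (Fin r → ℤ) →ₐ[k] K, (pr f x).comp ρ b = f (bas k _ m) * x b := fun f => by
    rw [AlgHom.comp_apply, hb]
    simp
  rw [hev]
  rcases eq_or_ne m 1 with rfl | hm1
  · rw [bas_apply, ← MonoidAlgebra.one_def, map_one, one_mul]
  have h1 := DFunLike.congr_fun hx b
  rw [hev, AlgHom.comp_apply, chr_bas, Algebra.ofId_apply, ← Algebra.smul_def] at h1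
  have h2 : (χ m - 1) • x b = 0 := by rw [sub_smul, one_smul, h1, sub_self]
  rw [(smul_eq_zero.1 h2).resolve_left (sub_ne_zero.2 (hχ m hm hm1)), mul_zero]

theorem algebra_finiteType {R A : Type u} [CommRing R] [CommRing A] [Algebra R A]
    [LocallyOfFiniteType (sp R A).hom] : Algebra.FiniteType R A := by
  have h : LocallyOfFiniteType (Spec.map (CommRingCat.ofHom (algebraMap R A))) :=
    ‹LocallyOfFiniteType (sp R A).hom›
  exact RingHom.finiteType_algebraMap.mp
    ((HasRingHomProperty.Spec_iff (P := @LocallyOfFiniteType)).1 h)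

attribute [-instance] CategoryTheory.Hom.commGroup

/-- A rational point of a torus with the same centralizer as the torus. -/
theorem exists_point {k : Type u} [Field k] [IsAlgClosed k] {G S : Over (Spec (CommRingCat.of k))} [GrpObj G]
    [GrpObj S] [LocallyOfFiniteType G.hom] [IsAffine G.left] (iS : S ⟶ G) [IsMonHom iS] (hS : Red.IsTorus S) :
    ∃ s : 𝟙_ (Over (Spec (CommRingCat.of k))) ⟶ S, ∀ (T : Over (Spec (CommRingCat.of k))) (g : T ⟶ G),
      g * (toUnit T ≫ s ≫ iS) = (toUnit T ≫ s ≫ iS) * g →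
        ∀ (T' : Over (Spec (CommRingCat.of k))) (t : T' ⟶ T) (h : T' ⟶ S),
          (t ≫ g) * (h ≫ iS) = (h ≫ iS) * (t ≫ g) := by
  obtain ⟨r, w, hw, -⟩ := RedCharZeroLib.exists_laurent_iso hS
  obtain ⟨B, _, _, v, ρ, hρ, hact, -⟩ := FreeAct.exists_coaction w (TrivNil.conjAction iS)
  haveI : IsIso v.hom.left := inferInstanceAs (IsIso ((Over.forget _).map v.hom))
  haveI : LocallyOfFiniteType (sp k B).hom := by rw [← Over.w v.hom]; infer_instance
  haveI := algebra_finiteType (R := k) (A := B)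
  obtain ⟨φs, hφs⟩ := exists_sep_algHom ρ hρ
  refine ⟨inv (DiagRep.toBase (R := k)) ≫ pt φs ≫ w.hom, fun T g hg T' t h => hom_ext_affine _ _ fun K _ _ u => ?_⟩
  obtain ⟨χ, hχ⟩ := DiagRep.exists_pt (u ≫ h ≫ w.inv)
  obtain ⟨x, hx⟩ := DiagRep.exists_pt (u ≫ t ≫ g ≫ v.inv)
  have eh : u ≫ h = pt χ ≫ w.hom := by rw [← hχ]; simp
  have eg : u ≫ t ≫ g = pt x ≫ v.hom := by rw [← hx]; simp
  have hc : (pr ((Algebra.ofId k K).comp φs) x).comp ρ = x := by
    apply pt_injective
    rw [← cancel_mono v.hom, ← hact, TrivNil.comp_conjAction_act, ← eg, mul_inv_eq_iff_eq_mul,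
      ← DiagRep.const_pt φs]
    have h1 := congrArg (fun f => (u ≫ t) ≫ f) hg
    simp only [MonObj.comp_mul, Category.assoc] at h1 ⊢
    simpa only [comp_toUnit_assoc] using h1.symm
  have h2 := hact K χ x
  rw [hφs K x hc χ, TrivNil.comp_conjAction_act, ← eh, ← eg, mul_inv_eq_iff_eq_mul] at h2
  simpa only [MonObj.comp_mul, Category.assoc] using h2.symm

end Groth.Agent.TorPt
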